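import Groth.Agent.Lib.EulerPull.Basic

/-!
# Euler characteristics along finite flat morphisms split by a cover
-/

set_option linter.style.haveILetI false
set_option autoImplicit false
set_option linter.all false
set_option backward.isDefEq.respectTransparency false
set_option maxHeartbeats 800000

universe u

open CategoryTheory CategoryTheory.Limits AlgebraicGeometry TopologicalSpace Opposite
open Scheme.Modules (pushforward)

noncomputable section

namespace GrothLib.EtEuler26

open GrothLib.Snapper GrothLib.EulerPull

variable (k : Type u) [Field k] {W X : Scheme.{u}} [W.Over (Spec (CommRingCat.of k))] [X.Over (Spec (CommRingCat.of k))]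
  [IsProper (X ↘ Spec (CommRingCat.of k))] (π : W ⟶ X) [IsFinite π] [Flat π]

/-- **Euler characteristics along a finite flat surjection trivialised by another one.** -/
theorem euler_pullback_of_splitting {T : Scheme.{u}} [T.Over (Spec (CommRingCat.of k))] (τ : T ⟶ X) [IsFinite τ] [Flat τ]
    [Surjective τ] (hτ : τ ≫ X ↘ Spec (CommRingCat.of k) = T ↘ Spec (CommRingCat.of k))
    (hπ : π ≫ X ↘ Spec (CommRingCat.of k) = W ↘ Spec (CommRingCat.of k)) {d : ℕ}
    (ψ : (pushforward (Limits.pullback.snd π τ)).obj (Coh.structureModule (Limits.pullback π τ)) ≅ FlatMod.freeMod T d)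
    {m : ℕ} (hm : DimLT (Set.univ : Set X) m) (G : X.Modules) (hG : Coh.IsCoh G) :
    Curv2.euler k W ((Scheme.Modules.pullback π).obj G) = d * Curv2.euler k X G := by
  haveI := isProper_source k π hπ
  haveI := Euler.isNoetherian_of_proper (X := X) k
  haveI := Euler.isNoetherian_of_proper (X := W) k
  haveI := isProper_source k τ hτ
  haveI := Euler.isNoetherian_of_proper (X := T) k
  let P := Limits.pullback π τ
  let p₁ : P ⟶ W := Limits.pullback.fst π τ
  let p₂ : P ⟶ T := Limits.pullback.snd π τ
  letI : P.Over (Spec (CommRingCat.of k)) := ⟨p₂ ≫ T ↘ Spec (CommRingCat.of k)⟩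
  haveI : IsProper (P ↘ Spec (CommRingCat.of k)) := inferInstanceAs (IsProper (p₂ ≫ T ↘ Spec (CommRingCat.of k)))
  suffices h : ∀ (m : ℕ) (F : X.Modules), Coh.IsCoh F → DimLT (CohB1.support F) m → defect k π d F = 0 by
    have := h m G hG (hm.mono (Set.subset_univ _))
    rw [defect] at this
    omega
  clear hm m
  intro m
  induction m with
  | zero =>
    intro F hF hd
    refine defect_isZero k π d (OX.isZero_of_subsingleton_stalks _ fun x => ?_)
    exact QCoh.stalk_subsingleton_of_notMem (by rw [eq_empty_of_dimLT_zero hd]; exact id)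
  | succ m ih =>
    have dec : ∀ (F : X.Modules) (S : Set X), IsClosed S → DimLT S (m + 1) → Coh.IsCoh F → CohB1.support F ⊆ S →
        (∀ x, IsTop m x → Module.length (X.presheaf.stalk x) (F.presheaf.stalk x) ≠ ⊤) ∧
          defect k π d F = ∑ᶠ x : X, topTerm (defect k π d) m F x := fun F S hS hSd hF hFS =>
      top_decomposition (defect k π d) (fun A B ⟨e⟩ => defect_iso k π d e) hS hSd
        (fun T hT a b c _ => defect_add k π hπ d hT a b c) (fun M hM _ hMd => ih M hM hMd) F hF hFS
    have hpt : ∀ y : X, IsTop m y → defect k π d (ptMod y) = 0 := by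
      intro y hy
      let I := Scheme.IdealSheafData.vanishingIdeal (⟨closure {y}, isClosed_closure⟩ : Closeds X)
      let j : I.subscheme ⟶ X := I.subschemeι
      let V := Limits.pullback τ j
      let π' : V ⟶ I.subscheme := Limits.pullback.snd τ j
      let j' : V ⟶ T := Limits.pullback.fst τ j
      haveI : (Coh.structureModule I.subscheme).IsQuasicoherent := Cohom.isQuasicoherent_structureModule _
      have hsq : IsPullback j' π' τ j := IsPullback.of_hasPullback τ j
      haveI := AffBC.isIso_bcMap hsq.flip (Coh.structureModule I.subscheme)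
      let F := (Scheme.Modules.pullback τ).obj (ptMod y)
      let Q := (pushforward τ).obj F
      have hFc : Coh.IsCoh F := ModDesc.isCoh_pullback τ _ (isCoh_ptMod y)
      haveI := hFc.1
      have hTc : Coh.IsCoh Q := FormalExist7.isCoh_pushforward τ hFc
      let eF : F ≅ (pushforward j').obj (Coh.structureModule V) :=
        asIso (AffBC.bcMap hsq.flip (Coh.structureModule I.subscheme)) ≪≫ (pushforward j').mapIso (OX.pullUnitIso π')
      let eT : Q ≅ (pushforward (j' ≫ τ)).obj (Coh.structureModule V) :=
        (pushforward τ).mapIso eF ≪≫ (Scheme.Modules.pushforwardComp j' τ).app _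
      have hrange : ∀ v : V, (j' ≫ τ) v ∈ closure ({y} : Set X) := fun v => by
        rw [← range_pt y, hsq.w, Scheme.Hom.comp_apply]
        exact ⟨π' v, rfl⟩
      have hTy : CohB1.support Q ⊆ closure {y} := by
        rw [QCoh.support_eq_of_iso eT]
        intro x hx
        by_contra hxc
        refine absurd hx (QCoh.notMem_support_of_forall_subsingleton _ (W := ⟨(closure {y})ᶜ,
          isClosed_closure.isOpen_compl⟩) (fun U hU => ?_) hxc)
        have : (j' ≫ τ) ⁻¹ᵁ U = ⊥ := le_antisymm (fun v hv => ((hU hv) (hrange v)).elim) bot_le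
        show Subsingleton Γ(Coh.structureModule V, (j' ≫ τ) ⁻¹ᵁ U)
        rw [this]
        exact Cohom.subsingleton_sections_bot (Coh.toAb _)
      have hyT : y ∈ CohB1.support Q := by
        obtain ⟨z, hz⟩ : y ∈ Set.range j := by rw [range_pt y]; exact subset_closure rfl
        obtain ⟨w, hw⟩ := τ.surjective y
        obtain ⟨v, hv, -⟩ := Scheme.Pullback.exists_preimage_pullback (f := τ) (g := j) w z (hw.trans hz.symm)
        have hv' : (j' ≫ τ) v = y := by
          rw [Scheme.Hom.comp_apply, show j' v = w from hv, hw]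
        rw [QCoh.support_eq_of_iso eT]
        intro hsub
        haveI : Subsingleton (((pushforward (j' ≫ τ)).obj (Coh.structureModule V)).presheaf.stalk y) :=
          (subsingleton_iff.2 fun a b => @Subsingleton.elim _ hsub a b)
        obtain ⟨U, hyU, iU, iU', he⟩ := ((pushforward (j' ≫ τ)).obj (Coh.structureModule V)).presheaf.germ_eq
          (U := ⊤) (V := ⊤) y trivial trivial (1 : Γ(V, (j' ≫ τ) ⁻¹ᵁ ⊤)) (0 : Γ(V, (j' ≫ τ) ⁻¹ᵁ ⊤))
          (Subsingleton.elim _ _)
        have he' : (1 : Γ(V, (j' ≫ τ) ⁻¹ᵁ U)) = 0 := by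
          refine Eq.trans ?_ (he.trans (map_zero _))
          exact (map_one (V.presheaf.map (homOfLE ((j' ≫ τ).preimage_mono (leOfHom iU))).op).hom).symm
        haveI : Nonempty ((j' ≫ τ) ⁻¹ᵁ U : V.Opens) := ⟨⟨v, show (j' ≫ τ) v ∈ U from hv' ▸ hyU⟩⟩
        exact one_ne_zero he'
      -- the defect vanishes on the test module
      have hT0 : defect k π d Q = 0 := by
        haveI := AffBC.isIso_bcMap (IsPullback.of_hasPullback π τ).flip F
        haveI := FittSheaf.isQuasicoherent_pullback p₂ F
        have hp₁ : p₁ ≫ W ↘ Spec (CommRingCat.of k) = P ↘ Spec (CommRingCat.of k) := by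
          show p₁ ≫ W ↘ Spec (CommRingCat.of k) = p₂ ≫ T ↘ Spec (CommRingCat.of k)
          rw [← hπ, ← hτ, ← Category.assoc, ← Category.assoc, Limits.pullback.condition]
        have e3 : Curv2.euler k W ((Scheme.Modules.pullback π).obj Q) =
            Curv2.euler k P ((Scheme.Modules.pullback p₂).obj F) :=
          (Euler.euler_of_iso k (asIso (AffBC.bcMap (IsPullback.of_hasPullback π τ).flip F))).trans
            (euler_pushforward p₁ hp₁ ((Scheme.Modules.pullback p₂).obj F))
        rw [defect, show Curv2.euler k X Q = Curv2.euler k T F from euler_pushforward τ hτ F, e3]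
        exact defect_eq_zero_of_push_free k p₂ rfl ψ F hFc
      obtain ⟨hfin, hsum⟩ := dec Q _ isClosed_closure hy.dimLT hTc hTy
      rw [finsum_eq_single _ y fun x hne => topTerm_eq_zero _ fun hx hxs =>
        hne (hx.eq_of_specializes (specializes_iff_mem_closure.2 (hTy hxs)) hy.dimLT).symm, topTerm_of _ hy,
        hT0] at hsum
      have hm0 : mult Q y ≠ 0 := by
        intro h0
        rcases ENat.toNat_eq_zero.1 h0 with h0 | h0
        · exact hyT (Module.length_eq_zero_iff.1 h0)
        · exact hfin y hy h0
      exact (smul_eq_zero.1 hsum.symm).resolve_left hm0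
    intro F hF hd
    obtain ⟨-, hsum⟩ := dec F _ (QCoh.isClosed_support_of_isCoh hF) hd hF subset_rfl
    rw [hsum]
    refine finsum_eq_zero_of_forall_eq_zero fun x => ?_
    by_cases hx : IsTop m x
    · rw [topTerm_of _ hx, hpt x hx, smul_zero]
    · exact topTerm_eq_zero _ fun h => absurd h hx

end GrothLib.EtEuler26
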